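import Mathlib
import Cfsg.Prelude.Def_CaseTheorems
import Cfsg.Agent.Lib.Helper16.PCore

/-!
# S1957 (Thompson N-group lemma): definitions

`Cn w` is `C_G(w)` presented as the 2-local `N_G(⟨w⟩)`; `Rn w` is `O_2(C_G(w))` as a subgroup
of `G`.  `NC P U u w x` bundles the "non-central" configuration: `U ≤ P` a Klein four group normalized
by `P`, `u ∈ U#` central in `P`, `w ∈ U ∖ {1,u}`, and `x ∈ P` not commuting with `w`.
-/

set_option autoImplicit false

namespace Cfsg.Agent.Lib.Helper14.NG57

open Subgroup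

variable {G : Type*} [Group G]

/-- `C_G(w)` presented as the normalizer of `⟨w⟩` (they agree when `w` is an involution). -/
abbrev Cn (w : G) : Subgroup G := normalizer ((zpowers w : Subgroup G) : Set G)

/-- `O_2(C_G(w))` as a subgroup of `G`. -/
noncomputable def Rn (w : G) : Subgroup G := (Cfsg.pCore 2 ↥(Cn w)).map (Cn w).subtype

/-- the non-central configuration. -/
structure NC (P U : Subgroup G) (u w x : G) : Prop where
  hUP : U ≤ P
  hUn : P ≤ normalizer (U : Set G)
  hU4 : IsKleinFour ↥U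
  huU : u ∈ U
  hu1 : u ≠ 1
  huZ : ∀ y ∈ P, y * u = u * y
  hwU : w ∈ U
  hw1 : w ≠ 1
  hwu : w ≠ u
  hxP : x ∈ P
  hxw : x * w ≠ w * x

end Cfsg.Agent.Lib.Helper14.NG57
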