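import Cfsg.Agent.Lib.Helper14.NG57.Defs

/-! S1957 leaf L00a: three trivial facts on a Klein four subgroup (Mathlib `IsKleinFour`:
`card_four : Nat.card = 4`, `exponent_two : Monoid.exponent = 2`; `IsKleinFour` gives an
`IsMulCommutative`/commutativity via `IsKleinFour.mul_comm`-style lemmas or `mul_comm_of_exponent_two`). -/

set_option autoImplicit false

namespace Cfsg.Agent.Lib.Helper14.NG57

open Subgroup

variable {G : Type*} [Group G]

/-- every element of a Klein four subgroup squares to `1`. (`Monoid.exponent = 2`.) -/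
theorem klein_sq (U : Subgroup G) (hU4 : IsKleinFour ↥U) : ∀ a ∈ U, a * a = 1 := by
  intro a ha
  have h := Monoid.pow_exponent_eq_one (⟨a, ha⟩ : ↥U)
  rw [hU4.exponent_two, pow_two] at h
  exact congrArg Subtype.val h

/-- a Klein four subgroup is abelian. -/
theorem klein_comm (U : Subgroup G) (hU4 : IsKleinFour ↥U) : ∀ a ∈ U, ∀ b ∈ U, a * b = b * a := by
  intro a ha b hb
  have h := mul_comm_of_exponent_two hU4.exponent_two (⟨a, ha⟩ : ↥U) ⟨b, hb⟩
  exact congrArg Subtype.val h

/-- a non-identity element of a Klein four subgroup has order `2`. -/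
theorem klein_orderOf (U : Subgroup G) (hU4 : IsKleinFour ↥U) : ∀ a ∈ U, a ≠ 1 → orderOf a = 2 := by
  intro a ha ha1
  have h2 : a ^ 2 = 1 := by rw [pow_two]; exact klein_sq U hU4 a ha
  exact orderOf_eq_prime h2 ha1

end Cfsg.Agent.Lib.Helper14.NG57
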