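import Cfsg.Agent.Lib.Helper14.NG57.L00a

/-! S1957 leaf L00b: enumeration of a Klein four subgroup from two distinct non-identity elements.
`Nat.card U = 4`; the four elements `1, u, w, u*w` of `U` are pairwise distinct (`u*w = 1` would give
`w = u⁻¹ = u` by `klein_sq`), so they exhaust `U` (e.g. `Finset.eq_of_subset_of_card_le` / a card
argument on `({1,u,w,u*w} : Finset ↥U)`; or use Mathlib's `IsKleinFour.eq_finset_univ`). -/

set_option autoImplicit false

namespace Cfsg.Agent.Lib.Helper14.NG57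

open Subgroup

variable {G : Type*} [Group G]

theorem klein_cases (U : Subgroup G) (hU4 : IsKleinFour ↥U) (u w : G) (hu : u ∈ U) (hw : w ∈ U)
    (hu1 : u ≠ 1) (hw1 : w ≠ 1) (hwu : w ≠ u) :
    ∀ a ∈ U, a = 1 ∨ a = u ∨ a = w ∨ a = u * w := by
  intro a ha
  haveI := hU4
  by_cases h1 : a = 1
  · exact Or.inl h1
  by_cases h2 : a = u
  · exact Or.inr (Or.inl h2)
  by_cases h3 : a = w
  · exact Or.inr (Or.inr (Or.inl h3))
  right; right; right
  have key := IsKleinFour.eq_mul_of_ne_all (G := ↥U) (x := ⟨u, hu⟩) (y := ⟨w, hw⟩) (z := ⟨a, ha⟩)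
    (fun h => hu1 (congrArg Subtype.val h)) (fun h => hw1 (congrArg Subtype.val h))
    (fun h => hwu (congrArg Subtype.val h).symm) (fun h => h1 (congrArg Subtype.val h))
    (fun h => h2 (congrArg Subtype.val h)) (fun h => h3 (congrArg Subtype.val h))
  exact congrArg Subtype.val key

end Cfsg.Agent.Lib.Helper14.NG57
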