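import Cfsg.Agent.Lib.Helper14.NG57.Defs

/-! S1957 leaf L00c: for an involution `w`, `N_G(⟨w⟩) = C_G(w)`.
`zpowers w = {1, w}` (order 2).  `c ∈ normalizer (zpowers w)` iff `c * w * c⁻¹ ∈ zpowers w`
(finite cyclic: `Subgroup.mem_normalizer_iff`, and conjugation permutes); `c w c⁻¹ ≠ 1`, so `c w c⁻¹ = w`. -/

set_option autoImplicit false

namespace Cfsg.Agent.Lib.Helper14.NG57

open Subgroup

variable {G : Type*} [Group G]

theorem mem_Cn_iff {w : G} (hw : orderOf w = 2) {c : G} : c ∈ Cn w ↔ c * w = w * c := by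
  have hw1 : w ≠ 1 := by
    intro h; rw [h, orderOf_one] at hw; omega
  have hw2 : w ^ 2 = 1 := by rw [← hw]; exact pow_orderOf_eq_one w
  have hwinv : w⁻¹ = w := by
    rw [inv_eq_iff_mul_eq_one, ← pow_two]; exact hw2
  -- elements of `zpowers w` are `1` or `w`
  have hz : ∀ y : G, y ∈ zpowers w → y = 1 ∨ y = w := by
    intro y hy
    rw [Subgroup.mem_zpowers_iff] at hy
    obtain ⟨k, rfl⟩ := hy
    rcases Int.even_or_odd k with ⟨m, rfl⟩ | ⟨m, rfl⟩
    · left
      rw [← two_mul, zpow_mul, zpow_ofNat, hw2, one_zpow]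
    · right
      rw [zpow_add, zpow_mul, zpow_ofNat, hw2, one_zpow, one_mul, zpow_one]
  constructor
  · intro hc
    have h1 : c * w * c⁻¹ ∈ zpowers w :=
      (Subgroup.mem_normalizer_iff.mp hc w).mp (Subgroup.mem_zpowers w)
    rcases hz _ h1 with h | h
    · exfalso
      apply hw1
      have := congrArg (fun t => c⁻¹ * t * c) h
      simpa [mul_assoc] using this
    · have := congrArg (fun t => t * c) h
      simpa [mul_assoc] using this
  · intro hc
    rw [Subgroup.mem_normalizer_iff]
    intro y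
    have hcy : ∀ y : G, y ∈ zpowers w → c * y * c⁻¹ = y := by
      intro y hy
      rcases hz y hy with rfl | rfl
      · simp
      · rw [hc, mul_assoc, mul_inv_cancel, mul_one]
    constructor
    · intro hy
      rw [hcy y hy]; exact hy
    · intro hy
      have h2 := hcy _ hy
      -- `c * (c*y*c⁻¹) * c⁻¹ = c*y*c⁻¹` gives `c*y*c⁻¹ = y`-type cancellation
      have h3 : c * y * c⁻¹ = y := by
        have := congrArg (fun t => c⁻¹ * t * c) h2
        simpa [mul_assoc] using this
      rw [h3] at hy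
      exact hy

end Cfsg.Agent.Lib.Helper14.NG57
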