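import Cfsg.Agent.Lib.Helper14.NG57.Defs

/-!
S1957 leaf L01: the stability lemma.  `H` a finite group with `C_H(O_2(H)) ≤ O_2(H)`, `u` a central
element with `u*u = 1`, and `v` with `[r,v] ∈ {1,u}` for all `r ∈ O_2(H)`.  Then `v ∈ O_2(H)`.

Proof: `D := {c | ∀ r ∈ O_2(H), r⁻¹c⁻¹rc ∈ {1,u}}` is a subgroup (the values are central and of
order ≤ 2: `[r,cd] = [r,d][r,c]`, `[r,c⁻¹] = [r,c]⁻¹`), normal (`[r, gcg⁻¹] = g [g⁻¹rg, c] g⁻¹ = [g⁻¹rg, c]`,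
`O_2(H)` normal: `Helper16.pCore_normal`), and a 2-group: for `c ∈ D`, `[r, c*c] = [r,c]*[r,c] = 1`, so
`c*c` centralizes `O_2(H)`, hence `c*c ∈ O_2(H)` (a 2-group, `Helper16.pCore_isPGroup`).
So `D ≤ pCore 2 H` by `Helper16.le_pCore`.
-/

set_option autoImplicit false

namespace Cfsg.Agent.Lib.Helper14.NG57

open Subgroup

theorem mem_pCore_of_stab {H : Type*} [Group H] [Finite H]
    (hchar : Subgroup.centralizer (Cfsg.pCore 2 H : Set H) ≤ Cfsg.pCore 2 H)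
    (u : H) (huZ : ∀ h : H, h * u = u * h) (hu2 : u * u = 1)
    (v : H) (hv : ∀ r ∈ Cfsg.pCore 2 H, r⁻¹ * v⁻¹ * r * v = 1 ∨ r⁻¹ * v⁻¹ * r * v = u) :
    v ∈ Cfsg.pCore 2 H := by
  classical
  have hRn : (Cfsg.pCore 2 H).Normal := Cfsg.Agent.Lib.Helper16.pCore_normal
  have hRp : IsPGroup 2 ↥(Cfsg.pCore 2 H) := Cfsg.Agent.Lib.Helper16.pCore_isPGroup
  have hSmul : ∀ x y : H, (x = 1 ∨ x = u) → (y = 1 ∨ y = u) → (x * y = 1 ∨ x * y = u) := by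
    rintro x y (rfl | rfl) (rfl | rfl)
    · left; simp
    · right; simp
    · right; simp
    · left; exact hu2
  have hSinv : ∀ x : H, (x = 1 ∨ x = u) → (x⁻¹ = 1 ∨ x⁻¹ = u) := by
    rintro x (rfl | rfl)
    · left; simp
    · right; exact inv_eq_of_mul_eq_one_left hu2
  have hScen : ∀ x : H, (x = 1 ∨ x = u) → ∀ h : H, h * x = x * h := by
    rintro x (rfl | rfl) h
    · simp
    · exact huZ h
  have key_mul : ∀ r c d : H, (∀ h : H, h * (r⁻¹ * c⁻¹ * r * c) = (r⁻¹ * c⁻¹ * r * c) * h) →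
      r⁻¹ * (c * d)⁻¹ * r * (c * d) = (r⁻¹ * d⁻¹ * r * d) * (r⁻¹ * c⁻¹ * r * c) := by
    intro r c d hA
    calc r⁻¹ * (c * d)⁻¹ * r * (c * d) = r⁻¹ * d⁻¹ * r * ((r⁻¹ * c⁻¹ * r * c) * d) := by group
      _ = r⁻¹ * d⁻¹ * r * (d * (r⁻¹ * c⁻¹ * r * c)) := by rw [← hA d]
      _ = (r⁻¹ * d⁻¹ * r * d) * (r⁻¹ * c⁻¹ * r * c) := by group
  have key_inv : ∀ r c : H, (∀ h : H, h * (r⁻¹ * c⁻¹ * r * c) = (r⁻¹ * c⁻¹ * r * c) * h) →
      r⁻¹ * (c⁻¹)⁻¹ * r * c⁻¹ = (r⁻¹ * c⁻¹ * r * c)⁻¹ := by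
    intro r c hA
    apply eq_inv_of_mul_eq_one_left
    calc r⁻¹ * (c⁻¹)⁻¹ * r * c⁻¹ * (r⁻¹ * c⁻¹ * r * c)
        = r⁻¹ * c * r * (c⁻¹ * (r⁻¹ * c⁻¹ * r * c)) := by group
      _ = r⁻¹ * c * r * ((r⁻¹ * c⁻¹ * r * c) * c⁻¹) := by rw [hA c⁻¹]
      _ = 1 := by group
  let D : Subgroup H :=
    { carrier := {c | ∀ r ∈ Cfsg.pCore 2 H, r⁻¹ * c⁻¹ * r * c = 1 ∨ r⁻¹ * c⁻¹ * r * c = u}
      one_mem' := by
        intro r _
        left; simp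
      mul_mem' := by
        intro c d hc hd r hr
        rw [key_mul r c d (hScen _ (hc r hr))]
        exact hSmul _ _ (hd r hr) (hc r hr)
      inv_mem' := by
        intro c hc r hr
        rw [key_inv r c (hScen _ (hc r hr))]
        exact hSinv _ (hc r hr) }
  have hDmem : ∀ c : H, c ∈ D ↔
      ∀ r ∈ Cfsg.pCore 2 H, r⁻¹ * c⁻¹ * r * c = 1 ∨ r⁻¹ * c⁻¹ * r * c = u := fun c => Iff.rfl
  have hDn : D.Normal := by
    constructor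
    intro c hc g
    rw [hDmem]
    intro r hr
    have hr' : g⁻¹ * r * g ∈ Cfsg.pCore 2 H := by
      have := hRn.conj_mem r hr g⁻¹
      simpa using this
    have h1 := (hDmem c).mp hc _ hr'
    have h2 : r⁻¹ * (g * c * g⁻¹)⁻¹ * r * (g * c * g⁻¹)
        = g * ((g⁻¹ * r * g)⁻¹ * c⁻¹ * (g⁻¹ * r * g) * c) * g⁻¹ := by group
    have h3 : g * ((g⁻¹ * r * g)⁻¹ * c⁻¹ * (g⁻¹ * r * g) * c) * g⁻¹
        = (g⁻¹ * r * g)⁻¹ * c⁻¹ * (g⁻¹ * r * g) * c := by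
      rw [hScen _ h1 g]
      group
    rw [h2, h3]
    exact h1
  have hDp : IsPGroup 2 ↥D := by
    intro c
    have hc := (hDmem c.1).mp c.2
    have hcc : c.1 * c.1 ∈ Cfsg.pCore 2 H := by
      apply hchar
      rw [mem_centralizer_iff]
      intro r hr
      have h1 := key_mul r c.1 c.1 (hScen _ (hc r hr))
      have h2 : r⁻¹ * (c.1 * c.1)⁻¹ * r * (c.1 * c.1) = 1 := by
        rw [h1]
        rcases hc r hr with h | h
        · rw [h]; simp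
        · rw [h]; exact hu2
      have h3 : r * (c.1 * c.1) = (c.1 * c.1) * r * (r⁻¹ * (c.1 * c.1)⁻¹ * r * (c.1 * c.1)) := by
        group
      rw [h3, h2, mul_one]
    obtain ⟨k, hk⟩ := hRp ⟨c.1 * c.1, hcc⟩
    refine ⟨k + 1, ?_⟩
    have hk' : (c.1 * c.1) ^ (2 ^ k) = 1 := by
      have := congrArg Subtype.val hk
      simpa using this
    apply Subtype.ext
    rw [Subgroup.coe_pow, Subgroup.coe_one, pow_succ, mul_comm, pow_mul, pow_two]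
    exact hk'
  have hDle : D ≤ Cfsg.pCore 2 H := Cfsg.Agent.Lib.Helper16.le_pCore D hDn hDp
  exact hDle ((hDmem v).mpr hv)

end Cfsg.Agent.Lib.Helper14.NG57
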