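import Cfsg.Agent.Lib.Helper14.NG57.Defs

/-! S1957 leaf L04d: basic API of `Rn w = (pCore 2 ↥(Cn w)).map (Cn w).subtype`.
`Rn w ≤ Cn w` (`Subgroup.map_subtype_le`), membership, and normality in `Cn w`
(`Helper16.pCore_normal`). -/

set_option autoImplicit false

namespace Cfsg.Agent.Lib.Helper14.NG57

open Subgroup

variable {G : Type*} [Group G]

theorem Rn_le_Cn (w : G) : Rn w ≤ Cn w := by
  exact Subgroup.map_subtype_le _

theorem mem_Rn_iff (w : G) (x : G) (hx : x ∈ Cn w) :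
    x ∈ Rn w ↔ (⟨x, hx⟩ : ↥(Cn w)) ∈ Cfsg.pCore 2 ↥(Cn w) := by
  constructor
  · rintro ⟨y, hy, hyx⟩
    have : y = ⟨x, hx⟩ := Subtype.ext hyx
    rw [← this]; exact hy
  · intro h
    exact ⟨⟨x, hx⟩, h, rfl⟩

/-- `Rn w` is normalized by `Cn w`. -/
theorem conj_mem_Rn (w : G) {r a : G} (hr : r ∈ Rn w) (ha : a ∈ Cn w) : a⁻¹ * r * a ∈ Rn w := by
  have hrC : r ∈ Cn w := Rn_le_Cn w hr
  have hr' := (mem_Rn_iff w r hrC).mp hr
  have hN : (Cfsg.pCore 2 ↥(Cn w)).Normal := Cfsg.Agent.Lib.Helper16.pCore_normal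
  have h1 := hN.conj_mem _ hr' (⟨a, ha⟩⁻¹ : ↥(Cn w))
  have hmem : a⁻¹ * r * a ∈ Cn w := (Cn w).mul_mem ((Cn w).mul_mem ((Cn w).inv_mem ha) hrC) ha
  rw [mem_Rn_iff w _ hmem]
  convert h1 using 1
  apply Subtype.ext
  simp

/-- commutators `[r,a]` with `r ∈ Rn w`, `a ∈ Cn w` lie in `Rn w`. -/
theorem comm_mem_Rn (w : G) {r a : G} (hr : r ∈ Rn w) (ha : a ∈ Cn w) :
    r⁻¹ * a⁻¹ * r * a ∈ Rn w := by
  have h1 := conj_mem_Rn w hr ha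
  have h2 : r⁻¹ * a⁻¹ * r * a = r⁻¹ * (a⁻¹ * r * a) := by group
  rw [h2]
  exact (Rn w).mul_mem ((Rn w).inv_mem hr) h1

end Cfsg.Agent.Lib.Helper14.NG57
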