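import Cfsg.Agent.Lib.Helper14.NG57.L00c
import Cfsg.Agent.Lib.Helper14.NG57.L04d

/-!
S1957 leaf L02: if `U ≤ O_2(C_G(w))` and `U` normalizes the odd-order subgroup `K`, then `U`
centralizes `C_K(w)`.

Proof: `x ∈ K`, `x w = w x` gives `x ∈ Cn w` (`mem_Cn_iff`).  For `a ∈ U`: `y := x⁻¹ a⁻¹ x a` lies in
`K` (`a` normalizes `K`: `a⁻¹ x a ∈ K`) and in `Rn w` (`(x⁻¹ a⁻¹ x) * a`: `conj_mem_Rn` with
`r := a⁻¹ ∈ Rn w`, then `a ∈ Rn w`).  `orderOf y ∣ Nat.card K` is odd and `orderOf y` is a power of `2`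
(`Rn w` is the image of `pCore 2 ↥(Cn w)`, a 2-group by `Helper16.pCore_isPGroup`; `IsPGroup.map`),
so `y = 1`, i.e. `x a = a x`.
-/

set_option autoImplicit false

namespace Cfsg.Agent.Lib.Helper14.NG57

open Subgroup

variable {G : Type*} [Group G] [Finite G]

theorem commute_of_le_Rn (U K : Subgroup G) (hK : Odd (Nat.card K))
    (hUK : U ≤ normalizer (K : Set G)) (w : G) (hw : orderOf w = 2) (hU : U ≤ Rn w) :
    ∀ x ∈ K, x * w = w * x → ∀ a ∈ U, x * a = a * x := by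
  intro x hxK hxw a haU
  have hxC : x ∈ Cn w := (mem_Cn_iff hw).2 hxw
  have haR : a ∈ Rn w := hU haU
  -- `y := x⁻¹ a⁻¹ x a`
  have hyK : x⁻¹ * a⁻¹ * x * a ∈ K := by
    have h1 : a⁻¹ * x * a ∈ K := by
      have := (mem_normalizer_iff.mp (hUK (inv_mem haU)) x).mp hxK
      simpa using this
    have h2 : x⁻¹ * a⁻¹ * x * a = x⁻¹ * (a⁻¹ * x * a) := by group
    rw [h2]
    exact mul_mem (inv_mem hxK) h1
  have hyR : x⁻¹ * a⁻¹ * x * a ∈ Rn w := by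
    have h1 : x⁻¹ * a⁻¹ * x ∈ Rn w := conj_mem_Rn w (inv_mem haR) hxC
    exact mul_mem h1 haR
  -- `Rn w` is a 2-group
  have hR2 : IsPGroup 2 (Rn w) := by
    unfold Rn
    have : Fact (Nat.Prime 2) := ⟨Nat.prime_two⟩
    exact (Cfsg.Agent.Lib.Helper16.pCore_isPGroup (G := ↥(Cn w)) (p := 2)).map _
  obtain ⟨k, hk⟩ := (IsPGroup.iff_orderOf.mp hR2) ⟨x⁻¹ * a⁻¹ * x * a, hyR⟩
  have hk' : orderOf (x⁻¹ * a⁻¹ * x * a) = 2 ^ k := by
    rw [← hk]; exact (Subgroup.orderOf_mk _ hyR).symm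
  have hdvd : orderOf (x⁻¹ * a⁻¹ * x * a) ∣ Nat.card K := by
    have := orderOf_dvd_natCard (⟨x⁻¹ * a⁻¹ * x * a, hyK⟩ : ↥K)
    rwa [Subgroup.orderOf_mk] at this
  have hy1 : x⁻¹ * a⁻¹ * x * a = 1 := by
    rw [← orderOf_eq_one_iff, hk']
    rw [hk'] at hdvd
    rcases Nat.eq_zero_or_pos k with h0 | h0
    · rw [h0, pow_zero]
    · exfalso
      have h2 : 2 ∣ Nat.card K := (dvd_pow_self 2 h0.ne').trans hdvd
      exact (Nat.not_even_iff_odd.mpr hK) (even_iff_two_dvd.mpr h2)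
  have : x * a = a * x * (x⁻¹ * a⁻¹ * x * a) := by group
  rw [this, hy1, mul_one]

end Cfsg.Agent.Lib.Helper14.NG57
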