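import Cfsg.Agent.Lib.Helper14.NG57.L00a
import Cfsg.Agent.Lib.Helper12.Generation

/-!
S1957 leaf L03: coprime generation.  A Klein four group `U` normalizing an odd-order `K` with `U`
centralizing every `C_K(w)` (`w ∈ U#`) centralizes `K`.

Proof: `Helper12.le_genC_of_card` (p = 2, `A = U`: `klein_comm`, `klein_sq` (as `x^2 = 1`), `hUK`,
`¬ 2 ∣ Nat.card K`, `2 < Nat.card U = 4`) gives `K ≤ genC U K = ⨆ a ∈ U#, K ⊓ C(a)`; each
`K ⊓ centralizer {a} ≤ centralizer U` by `h`; so `K ≤ centralizer U`, i.e. `U ≤ centralizer K`.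
-/

set_option autoImplicit false

namespace Cfsg.Agent.Lib.Helper14.NG57

open Subgroup

variable {G : Type*} [Group G] [Finite G]

theorem le_centralizer_of_forall (U K : Subgroup G) (hU4 : IsKleinFour ↥U) (hK : Odd (Nat.card K))
    (hUK : U ≤ normalizer (K : Set G))
    (h : ∀ w ∈ U, w ≠ 1 → ∀ x ∈ K, x * w = w * x → ∀ a ∈ U, x * a = a * x) :
    U ≤ centralizer (K : Set G) := by
  have : Fact (Nat.Prime 2) := ⟨Nat.prime_two⟩
  have hcomm := klein_comm U hU4
  have hexp : ∀ x ∈ U, x ^ 2 = 1 := fun x hx => by rw [sq]; exact klein_sq U hU4 x hx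
  have hpK : ¬ 2 ∣ Nat.card K := by
    intro h2
    exact (Nat.not_even_iff_odd.mpr hK) (even_iff_two_dvd.mpr h2)
  have hcard : 2 < Nat.card U := by rw [hU4.card_four]; norm_num
  have hgen := Cfsg.Agent.Lib.Helper12.le_genC_of_card (p := 2) hcomm hexp hUK hpK hcard
  have hle : Cfsg.Agent.Lib.Helper12.genC U K ≤ centralizer (U : Set G) := by
    unfold Cfsg.Agent.Lib.Helper12.genC
    apply iSup_le
    rintro ⟨a, haU, ha1⟩ x hx
    have hxK : x ∈ K := hx.1
    have hxa : x ∈ centralizer ({a} : Set G) := hx.2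
    rw [mem_centralizer_iff]
    intro b hb
    rw [mem_centralizer_iff] at hxa
    have hxa' : x * a = a * x := (hxa a (Set.mem_singleton a)).symm
    exact (h a haU ha1 x hxK hxa' b hb).symm
  intro a ha
  rw [mem_centralizer_iff]
  intro x hx
  have := hle (hgen hx)
  rw [mem_centralizer_iff] at this
  exact (this a ha).symm

end Cfsg.Agent.Lib.Helper14.NG57
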