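import Cfsg.Agent.Lib.Helper14.NG57.Defs

/-! S1957 leaf L04a: `w ∈ O_2(C_G(w))`.
`(zpowers w).subgroupOf (Cn w)` is normal in `↥(Cn w)` (`Cn w` IS `normalizer (zpowers w)`:
`Subgroup.normal_in_normalizer`), and a 2-group (card `= orderOf w = 2`, `IsPGroup.of_card`), so it is
`≤ pCore 2 ↥(Cn w)` by `Helper16.le_pCore`; `w ∈ zpowers w ≤ Cn w` (`Subgroup.le_normalizer`). -/

set_option autoImplicit false

namespace Cfsg.Agent.Lib.Helper14.NG57

open Subgroup

variable {G : Type*} [Group G]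

theorem w_mem_Rn (w : G) (hw : orderOf w = 2) : w ∈ Rn w := by
  have hle : zpowers w ≤ Cn w := Subgroup.le_normalizer
  have hwC : w ∈ Cn w := hle (mem_zpowers w)
  have hN : ((zpowers w).subgroupOf (Cn w)).Normal := Subgroup.normal_in_normalizer
  have hP : IsPGroup 2 ↥((zpowers w).subgroupOf (Cn w)) := by
    have h2 : IsPGroup 2 ↥(zpowers w) := by
      apply IsPGroup.of_card (n := 1)
      rw [Nat.card_zpowers, hw, pow_one]
    exact h2.comap_of_injective (Cn w).subtype (Subgroup.subtype_injective _)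
  have h1 := Cfsg.Agent.Lib.Helper16.le_pCore _ hN hP
  refine ⟨⟨w, hwC⟩, h1 ?_, rfl⟩
  rw [Subgroup.mem_subgroupOf]
  exact mem_zpowers w

end Cfsg.Agent.Lib.Helper14.NG57
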