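import Cfsg.Agent.Lib.Helper14.NG57.L00c

/-! S1957 leaf L04b: if the involution `w` is central in the Sylow 2-subgroup `P` then
`O_2(C_G(w)) ≤ P`.
`P ≤ Cn w` (`mem_Cn_iff`), so `P.subtype h : Sylow 2 ↥(Cn w)` (`Sylow.subtype`, `Sylow.coe_subtype`)
and `Helper16.pCore_le_sylow` gives `pCore 2 ↥(Cn w) ≤ (↑P).subgroupOf (Cn w)`; map by `(Cn w).subtype`
(`Subgroup.subgroupOf_map_subtype`). -/

set_option autoImplicit false

namespace Cfsg.Agent.Lib.Helper14.NG57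

open Subgroup

variable {G : Type*} [Group G] [Finite G]

theorem Rn_le_sylow (P : Sylow 2 G) (w : G) (hw : orderOf w = 2)
    (hwZ : ∀ x ∈ (P : Subgroup G), x * w = w * x) : Rn w ≤ (P : Subgroup G) := by
  have hPC : (P : Subgroup G) ≤ Cn w := by
    intro c hc
    exact (mem_Cn_iff hw).mpr (hwZ c hc)
  have h1 : Cfsg.pCore 2 ↥(Cn w) ≤ ((P.subtype hPC : Sylow 2 ↥(Cn w)) : Subgroup ↥(Cn w)) :=
    Cfsg.Agent.Lib.Helper16.pCore_le_sylow (P.subtype hPC)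
  rw [Sylow.coe_subtype] at h1
  rintro _ ⟨c, hc, rfl⟩
  exact Subgroup.mem_subgroupOf.mp (h1 hc)

end Cfsg.Agent.Lib.Helper14.NG57
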