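import Cfsg.Agent.Lib.Helper14.NG57.Defs

/-! S1957 leaf L04c: `C_G(w) = N_G(⟨w⟩)` has characteristic 2.
`h2.2 (zpowers w) _ _` with `IsPGroup 2 (zpowers w)` (card `= orderOf w = 2`: `Nat.card_zpowers`,
`IsPGroup.of_card (n := 1)`) and `zpowers w ≠ ⊥` (`w ≠ 1` as `orderOf w = 2`);
`Cfsg.IsOfCharacteristicTwo` unfolds to the goal. -/

set_option autoImplicit false

namespace Cfsg.Agent.Lib.Helper14.NG57

open Subgroup

variable {G : Type*} [Group G]

theorem char_Cn (h2 : Cfsg.IsCharacteristicTwoType G) (w : G) (hw : orderOf w = 2) :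
    Subgroup.centralizer (Cfsg.pCore 2 ↥(Cn w) : Set ↥(Cn w)) ≤ Cfsg.pCore 2 ↥(Cn w) := by
  have hp : IsPGroup 2 ↥(zpowers w) := by
    apply IsPGroup.of_card (n := 1)
    rw [Nat.card_zpowers, hw, pow_one]
  have hne : zpowers w ≠ ⊥ := by
    intro h
    rw [Subgroup.zpowers_eq_bot] at h
    rw [h, orderOf_one] at hw
    omega
  exact h2.2 (zpowers w) hp hne

end Cfsg.Agent.Lib.Helper14.NG57
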