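import Cfsg.Agent.Lib.Helper14.NG57.L00c
import Cfsg.Agent.Lib.Helper14.NG57.L01
import Cfsg.Agent.Lib.Helper14.NG57.L04c
import Cfsg.Agent.Lib.Helper14.NG57.L04d

/-! S1957 leaf L04e: the stability lemma `mem_pCore_of_stab` (L01) transported to `G`.
Apply `mem_pCore_of_stab` with `H := ↥(Cn w)`, `hchar := char_Cn h2 w hw`, `u := ⟨w, _⟩`
(`w ∈ Cn w` by `mem_Cn_iff hw`; central in `↥(Cn w)` by `mem_Cn_iff hw`; `w * w = 1` from `orderOf w = 2`),
`v := ⟨a, ha⟩`; the hypothesis `hv` for `r : ↥(Cn w)` in `pCore` follows from `h r.1 _`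
(`mem_Rn_iff`), comparing values in `G` (`Subtype.ext`).  Conclude with `mem_Rn_iff`. -/

set_option autoImplicit false

namespace Cfsg.Agent.Lib.Helper14.NG57

open Subgroup

variable {G : Type*} [Group G] [Finite G]

theorem mem_Rn_of_stab (h2 : Cfsg.IsCharacteristicTwoType G) (w : G) (hw : orderOf w = 2)
    (a : G) (ha : a ∈ Cn w)
    (h : ∀ r ∈ Rn w, r⁻¹ * a⁻¹ * r * a = 1 ∨ r⁻¹ * a⁻¹ * r * a = w) : a ∈ Rn w := by
  have hwC : w ∈ Cn w := (mem_Cn_iff hw).2 rfl
  have hww : w * w = 1 := by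
    have h0 := pow_orderOf_eq_one w
    rw [hw, pow_two] at h0
    exact h0
  rw [mem_Rn_iff w a ha]
  apply mem_pCore_of_stab (H := ↥(Cn w)) (char_Cn h2 w hw) ⟨w, hwC⟩
  · intro c
    apply Subtype.ext
    simp only [Subgroup.coe_mul]
    exact (mem_Cn_iff hw).1 c.2
  · apply Subtype.ext
    simpa using hww
  · intro r hr
    have hr' : (r : G) ∈ Rn w := (mem_Rn_iff w r.1 r.2).2 hr
    rcases h r.1 hr' with h1 | h1
    · left
      apply Subtype.ext
      simpa using h1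
    · right
      apply Subtype.ext
      simpa using h1

end Cfsg.Agent.Lib.Helper14.NG57
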