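import Cfsg.Agent.Lib.Helper14.NG57.L00b

/-! S1957 leaf L04f: if `V` contains `w ∈ U#` but misses `a ∈ U`, then `U ∩ V = {1, w}`.
`a ≠ 1` (`1 ∈ V`), `a ≠ w`; `klein_cases U hU4 w a ..` : every `x ∈ U` is `1, w, a` or `w * a`;
`a ∉ V`, and `w * a ∈ V` would give `a = w⁻¹ * (w * a) ∈ V`. -/

set_option autoImplicit false

namespace Cfsg.Agent.Lib.Helper14.NG57

open Subgroup

variable {G : Type*} [Group G]

theorem inf_cases (U V : Subgroup G) (hU4 : IsKleinFour ↥U) (w : G) (hwU : w ∈ U) (hwV : w ∈ V)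
    (hw1 : w ≠ 1) (a : G) (haU : a ∈ U) (haV : a ∉ V) :
    ∀ x ∈ U, x ∈ V → x = 1 ∨ x = w := by
  intro x hxU hxV
  have ha1 : a ≠ 1 := by
    rintro rfl
    exact haV (one_mem V)
  have haw : a ≠ w := by
    rintro rfl
    exact haV hwV
  rcases klein_cases U hU4 w a hwU haU hw1 ha1 haw x hxU with h | h | h | h
  · exact Or.inl h
  · exact Or.inr h
  · exact absurd (h ▸ hxV) haV
  · exfalso
    apply haV
    have : a = w⁻¹ * x := by rw [h]; group
    rw [this]
    exact mul_mem (inv_mem hwV) hxV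

end Cfsg.Agent.Lib.Helper14.NG57
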