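import Cfsg.Agent.Lib.Helper14.NG57.L00a
import Cfsg.Agent.Lib.Helper14.NG57.L00c
import Cfsg.Agent.Lib.Helper14.NG57.L04a
import Cfsg.Agent.Lib.Helper14.NG57.L04b
import Cfsg.Agent.Lib.Helper14.NG57.L04d
import Cfsg.Agent.Lib.Helper14.NG57.L04e
import Cfsg.Agent.Lib.Helper14.NG57.L04f

/-! S1957 step (A): if `w ∈ U#` is central in the Sylow 2-subgroup `P ⊵ U`, then `U ≤ O_2(C_G(w))`.
(assembly; sorry-free modulo the leaves) -/

set_option autoImplicit false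

namespace Cfsg.Agent.Lib.Helper14.NG57

open Subgroup

variable {G : Type*} [Group G] [Finite G]

theorem le_Rn_of_central (h2 : Cfsg.IsCharacteristicTwoType G) (P : Sylow 2 G) (U : Subgroup G)
    (hUP : U ≤ (P : Subgroup G)) (hUn : (P : Subgroup G) ≤ normalizer (U : Set G))
    (hU4 : IsKleinFour ↥U) (w : G) (hwU : w ∈ U) (hw1 : w ≠ 1)
    (hwZ : ∀ x ∈ (P : Subgroup G), x * w = w * x) : U ≤ Rn w := by
  have hw2 : orderOf w = 2 := klein_orderOf U hU4 w hwU hw1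
  intro a haU
  by_contra haR
  have haC : a ∈ Cn w := (mem_Cn_iff hw2).mpr (hwZ a (hUP haU))
  apply haR
  apply mem_Rn_of_stab h2 w hw2 a haC
  intro r hr
  have hrP : r ∈ (P : Subgroup G) := Rn_le_sylow P w hw2 hwZ hr
  have h1 : r⁻¹ * a⁻¹ * r * a ∈ U := by
    have h3 : r⁻¹ * a⁻¹ * r ∈ U := by
      have := (mem_normalizer_iff.mp (hUn (inv_mem hrP)) a⁻¹).mp (inv_mem haU)
      simpa using this
    exact mul_mem h3 haU
  have h2' : r⁻¹ * a⁻¹ * r * a ∈ Rn w := comm_mem_Rn w hr haC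
  exact inf_cases U (Rn w) hU4 w hwU (w_mem_Rn w hw2) hw1 a haU haR _ h1 h2'

end Cfsg.Agent.Lib.Helper14.NG57
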