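import Cfsg.Agent.Lib.Helper14.NG57.Defs

/-! S1957 leaf L05: a Klein four subgroup `U` normalized by the 2-group `P ≥ U` contains an
involution central in `P`.
Recipe: `P` acts on `U` by conjugation (`MulAut.conjNormal` for `U.subgroupOf P`, normal by
`Subgroup.normal_subgroupOf_iff_le_normalizer hUP`); `IsPGroup.card_modEq_card_fixedPoints`: the number of
fixed points is `≡ 4 [MOD 2]`, hence even, and `1` is fixed, so there is a fixed point `u ≠ 1`.
(Alternatively: `U.subgroupOf P` is a nontrivial normal subgroup of the `2`-group `↥P`, which meets the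
centre nontrivially; cf. `Cfsg.Agent.Lib.Helper22.exists_central_mod`, `Cfsg.Agent.S0587.exists_central_of_pgroup`
for the style.) -/

set_option autoImplicit false

namespace Cfsg.Agent.Lib.Helper14.NG57

open Subgroup

variable {G : Type*} [Group G] [Finite G]

theorem exists_central (P U : Subgroup G) (hP : IsPGroup 2 ↥P) (hUP : U ≤ P)
    (hUn : P ≤ normalizer (U : Set G)) (hU4 : IsKleinFour ↥U) :
    ∃ u ∈ U, u ≠ 1 ∧ ∀ y ∈ P, y * u = u * y := by
  classical
  letI act : MulAction ↥P ↥U :=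
    { smul := fun y u => ⟨(y : G) * (u : G) * (y : G)⁻¹,
        (mem_normalizer_iff.mp (hUn y.2) (u : G)).mp u.2⟩
      one_smul := fun u => Subtype.ext (by
        show ((1 : ↥P) : G) * (u : G) * ((1 : ↥P) : G)⁻¹ = (u : G)
        simp)
      mul_smul := fun a b u => Subtype.ext (by
        show ((a * b : ↥P) : G) * (u : G) * ((a * b : ↥P) : G)⁻¹ =
          (a : G) * ((b : G) * (u : G) * (b : G)⁻¹) * (a : G)⁻¹
        rw [Subgroup.coe_mul]
        group) }
  have hsmul : ∀ (y : ↥P) (u : ↥U), ((y • u : ↥U) : G) = (y : G) * (u : G) * (y : G)⁻¹ :=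
    fun _ _ => rfl
  have hmod := hP.card_modEq_card_fixedPoints ↥U
  have hc4 : Nat.card ↥U = 4 := hU4.card_four
  have h1fix : (1 : ↥U) ∈ MulAction.fixedPoints ↥P ↥U := by
    intro y
    apply Subtype.ext
    rw [hsmul]
    simp
  have hgt : 1 < Nat.card ↥(MulAction.fixedPoints ↥P ↥U) := by
    have hpos : 0 < Nat.card ↥(MulAction.fixedPoints ↥P ↥U) := by
      haveI : Nonempty ↥(MulAction.fixedPoints ↥P ↥U) := ⟨⟨1, h1fix⟩⟩
      exact Nat.card_pos
    by_contra hle
    have h1 : Nat.card ↥(MulAction.fixedPoints ↥P ↥U) = 1 := by omega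
    rw [hc4, h1] at hmod
    exact absurd hmod (by decide)
  haveI : Nontrivial ↥(MulAction.fixedPoints ↥P ↥U) := Finite.one_lt_card_iff_nontrivial.mp hgt
  obtain ⟨⟨u, hu⟩, hne⟩ := exists_ne (⟨1, h1fix⟩ : ↥(MulAction.fixedPoints ↥P ↥U))
  refine ⟨(u : G), u.2, ?_, ?_⟩
  · intro h
    apply hne
    apply Subtype.ext
    exact Subtype.ext h
  · intro y hy
    have h2 := hu ⟨y, hy⟩
    have h3 : y * (u : G) * y⁻¹ = (u : G) := by
      have := congrArg Subtype.val h2
      rw [hsmul] at this
      exact this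
    calc y * (u : G) = (y * (u : G) * y⁻¹) * y := by group
      _ = (u : G) * y := by rw [h3]

end Cfsg.Agent.Lib.Helper14.NG57
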