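import Cfsg.Agent.Lib.Helper14.NG57.L06a

/-! S1957 leaf L06d: `C_P(w)` is normal in `P`.
`(g y g⁻¹) w = w (g y g⁻¹)` iff `y` commutes with `g⁻¹ w g`, which is `w` or `u*w` by `conj_cases`
(applied to `g⁻¹ ∈ P`); `y` commutes with `w` (hyp) and with `u` (`h.huZ`). -/

set_option autoImplicit false

namespace Cfsg.Agent.Lib.Helper14.NG57

open Subgroup

variable {G : Type*} [Group G]

theorem P0_normal {P U : Subgroup G} {u w x : G} (h : NC P U u w x) :
    ∀ g ∈ P, ∀ y ∈ P, y * w = w * y → (g * y * g⁻¹) * w = w * (g * y * g⁻¹) := by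
  intro g hg y hy hyw
  have hginv : g⁻¹ ∈ P := P.inv_mem hg
  have key : ∀ w' : G, g⁻¹ * w * g⁻¹⁻¹ = w' → y * w' = w' * y →
      (g * y * g⁻¹) * w = w * (g * y * g⁻¹) := by
    intro w' hw' hyw'
    have hw : w = g * w' * g⁻¹ := by rw [← hw']; group
    calc (g * y * g⁻¹) * w = g * (y * w') * g⁻¹ := by rw [hw]; group
      _ = g * (w' * y) * g⁻¹ := by rw [hyw']
      _ = w * (g * y * g⁻¹) := by rw [hw]; group
  rcases conj_cases h g⁻¹ hginv with h1 | h1
  · exact key w h1 hyw
  · refine key (u * w) h1 ?_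
    have hyu := h.huZ y hy
    calc y * (u * w) = (y * u) * w := by group
      _ = (u * y) * w := by rw [hyu]
      _ = u * (y * w) := by group
      _ = u * (w * y) := by rw [hyw]
      _ = u * w * y := by group

end Cfsg.Agent.Lib.Helper14.NG57
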