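import Cfsg.Agent.Lib.Helper14.NG57.L06b

/-! S1957 leaf L06e: `P = C_P(w) ∪ x C_P(w)`, so an element commuting with `C_P(w)` and with `x`
is central in `P`.
For `y ∈ P`: if `y w = w y` use `hc0`; otherwise `y = x * (x⁻¹ * y)` with `x⁻¹ * y ∈ P` commuting with `w`
(`mul_comm_of_not`), so `c` commutes with both factors. -/

set_option autoImplicit false

namespace Cfsg.Agent.Lib.Helper14.NG57

open Subgroup

variable {G : Type*} [Group G]

theorem central_of_comm {P U : Subgroup G} {u w x : G} (h : NC P U u w x)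
    (c : G) (hc0 : ∀ y ∈ P, y * w = w * y → y * c = c * y) (hcx : x * c = c * x) :
    ∀ y ∈ P, y * c = c * y := by
  intro y hy
  by_cases hyw : y * w = w * y
  · exact hc0 y hy hyw
  · have hz : (x⁻¹ * y) * w = w * (x⁻¹ * y) := mul_comm_of_not h y hy hyw
    have hzP : x⁻¹ * y ∈ P := P.mul_mem (P.inv_mem h.hxP) hy
    have hzc := hc0 _ hzP hz
    calc y * c = x * ((x⁻¹ * y) * c) := by group
      _ = x * (c * (x⁻¹ * y)) := by rw [hzc]
      _ = (x * c) * (x⁻¹ * y) := by group
      _ = (c * x) * (x⁻¹ * y) := by rw [hcx]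
      _ = c * y := by group

end Cfsg.Agent.Lib.Helper14.NG57
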