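import Cfsg.Agent.Lib.Helper14.NG57.L06c
import Cfsg.Agent.Lib.Helper14.NG57.L06d
import Cfsg.Agent.Lib.Helper14.NG57.L06e

/-! S1957 leaf L06: `U = Ω₁(Z(C_P(w)))` when `Z(P)` is cyclic.  Write `P0 = C_P(w)`.
`z ∈ P`, `z*z = 1`, `z` central in `P0` (so `z w = w z`, taking `y := w ∈ P`).  Claim `z ∈ U`.

Proof.  `z' := x z x⁻¹ ∈ P`; `z'` commutes with `w` (`P0_normal`) and with every `y ∈ P0`
(`x⁻¹ y x ∈ P0` by `P0_normal` applied to `x⁻¹`, and `z` commutes with it).  In particular `z z' = z' z`
(`z' ∈ P0`).  Put `c := z * z'`.  Then `c ∈ P`, `c*c = 1`, `c` commutes with `P0`, and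
`x c x⁻¹ = z' * (x x) z (x x)⁻¹ = z' * z = c` (`x*x ∈ P0` by `sq_comm`), so `c` is central in `P`
(`central_of_comm`); by `central_invol_cases`, `c = 1` or `c = u` (`u*u = 1`: `klein_sq`).
* `c = 1`: `z' = z⁻¹ = z`, i.e. `x z = z x`; so `z` is central in `P` (`central_of_comm`), and
  `central_invol_cases` gives `z = 1 ∨ z = u`, both in `U`.
* `c = u`: `x z x⁻¹ = z u`.  By `conj_cases`, `x w x⁻¹ = u w` (it is not `w` by `h.hxw`).  Then
  `x (z w) x⁻¹ = z u u w = z w`; `z w ∈ P` commutes with `P0`, so is central in `P`, and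
  `(z w)(z w) = 1`; `central_invol_cases` gives `z w = 1 ∨ z w = u`, i.e. `z = w` or `z = u w` (as `w*w = 1`),
  both in `U`. -/

set_option autoImplicit false

namespace Cfsg.Agent.Lib.Helper14.NG57

open Subgroup

variable {G : Type*} [Group G] [Finite G]

theorem mem_of_central_sq {P U : Subgroup G} {u w x : G} (h : NC P U u w x)
    (hcyc : IsCyclic ↥(P ⊓ centralizer (P : Set G)))
    (z : G) (hzP : z ∈ P) (hz2 : z * z = 1)
    (hzZ : ∀ y ∈ P, y * w = w * y → y * z = z * y) : z ∈ U := by
  have hwP : w ∈ P := h.hUP h.hwU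
  have huP : u ∈ P := h.hUP h.huU
  have hxP : x ∈ P := h.hxP
  have hxiP : x⁻¹ ∈ P := P.inv_mem hxP
  have hw2 : w * w = 1 := klein_sq U h.hU4 w h.hwU
  have hu2 : u * u = 1 := klein_sq U h.hU4 u h.huU
  have hwz : w * z = z * w := hzZ w hwP rfl
  have hzinv : z⁻¹ = z := by
    have : z * z = z * z⁻¹ := by rw [hz2]; group
    exact (mul_left_cancel this).symm
  have hwinv : w⁻¹ = w := by
    have : w * w = w * w⁻¹ := by rw [hw2]; group
    exact (mul_left_cancel this).symm
  -- z' := x z x⁻¹
  obtain ⟨z', hz'⟩ : ∃ z' : G, z' = x * z * x⁻¹ := ⟨_, rfl⟩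
  have hz'P : z' ∈ P := by
    rw [hz']; exact P.mul_mem (P.mul_mem hxP hzP) hxiP
  have hz'w : z' * w = w * z' := by
    rw [hz']; exact P0_normal h x hxP z hzP hwz.symm
  have hz'c : ∀ y ∈ P, y * w = w * y → y * z' = z' * y := by
    intro y hy hyw
    have hy' : (x⁻¹ * y * x⁻¹⁻¹) * w = w * (x⁻¹ * y * x⁻¹⁻¹) := P0_normal h x⁻¹ hxiP y hy hyw
    have hy'P : x⁻¹ * y * x⁻¹⁻¹ ∈ P := P.mul_mem (P.mul_mem hxiP hy) (P.inv_mem hxiP)
    have e := hzZ _ hy'P hy'
    rw [hz']
    calc y * (x * z * x⁻¹) = x * ((x⁻¹ * y * x⁻¹⁻¹) * z) * x⁻¹ := by group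
      _ = x * (z * (x⁻¹ * y * x⁻¹⁻¹)) * x⁻¹ := by rw [e]
      _ = (x * z * x⁻¹) * y := by group
  have hzz' : z' * z = z * z' := hzZ z' hz'P hz'w
  have hz'2 : z' * z' = 1 := by
    rw [hz']
    calc x * z * x⁻¹ * (x * z * x⁻¹) = x * (z * z) * x⁻¹ := by group
      _ = 1 := by rw [hz2]; group
  have hxx : (x * x) * z = z * (x * x) := hzZ (x * x) (P.mul_mem hxP hxP) (sq_comm h)
  have hxz' : x * z' * x⁻¹ = z := by
    rw [hz']
    calc x * (x * z * x⁻¹) * x⁻¹ = ((x * x) * z) * x⁻¹ * x⁻¹ := by group
      _ = (z * (x * x)) * x⁻¹ * x⁻¹ := by rw [hxx]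
      _ = z := by group
  -- c := z * z'
  have hcP : z * z' ∈ P := P.mul_mem hzP hz'P
  have hc2 : (z * z') * (z * z') = 1 := by
    calc (z * z') * (z * z') = z * (z' * z) * z' := by group
      _ = z * (z * z') * z' := by rw [hzz']
      _ = (z * z) * (z' * z') := by group
      _ = 1 := by rw [hz2, hz'2]; group
  have hc0 : ∀ y ∈ P, y * w = w * y → y * (z * z') = (z * z') * y := by
    intro y hy hyw
    have e1 := hzZ y hy hyw
    have e2 := hz'c y hy hyw
    calc y * (z * z') = (y * z) * z' := by group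
      _ = (z * y) * z' := by rw [e1]
      _ = z * (y * z') := by group
      _ = z * (z' * y) := by rw [e2]
      _ = (z * z') * y := by group
  have hcx : x * (z * z') = (z * z') * x := by
    have : x * (z * z') * x⁻¹ = z * z' := by
      calc x * (z * z') * x⁻¹ = (x * z * x⁻¹) * (x * z' * x⁻¹) := by group
        _ = z' * z := by rw [hxz', ← hz']
        _ = z * z' := hzz'
    calc x * (z * z') = (x * (z * z') * x⁻¹) * x := by group
      _ = (z * z') * x := by rw [this]
  have hccent := central_of_comm h (z * z') hc0 hcx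
  rcases central_invol_cases P hcyc u huP h.hu1 hu2 h.huZ (z * z') hcP hc2 hccent with hc1 | hcu
  · -- c = 1 : z' = z
    have hz'z : z' = z := by
      have : z * z' = z * z := by rw [hc1, hz2]
      exact mul_left_cancel this
    have hxz : x * z = z * x := by
      have : x * z * x⁻¹ = z := by rw [← hz', hz'z]
      calc x * z = (x * z * x⁻¹) * x := by group
        _ = z * x := by rw [this]
    have hzcent := central_of_comm h z hzZ hxz
    rcases central_invol_cases P hcyc u huP h.hu1 hu2 h.huZ z hzP hz2 hzcent with h1 | h1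
    · rw [h1]; exact U.one_mem
    · rw [h1]; exact h.huU
  · -- c = u
    have hxw : x * w * x⁻¹ = u * w := by
      rcases conj_cases h x hxP with h1 | h1
      · exfalso
        apply h.hxw
        calc x * w = (x * w * x⁻¹) * x := by group
          _ = w * x := by rw [h1]
      · exact h1
    have hz'eq : z' = z * u := by
      have : z * z' = z * (z * u) := by
        rw [hcu]
        calc u = (z * z) * u := by rw [hz2]; group
          _ = z * (z * u) := by group
      exact mul_left_cancel this
    -- t := z * w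
    have htP : z * w ∈ P := P.mul_mem hzP hwP
    have ht2 : (z * w) * (z * w) = 1 := by
      calc (z * w) * (z * w) = z * (w * z) * w := by group
        _ = z * (z * w) * w := by rw [hwz]
        _ = (z * z) * (w * w) := by group
        _ = 1 := by rw [hz2, hw2]; group
    have ht0 : ∀ y ∈ P, y * w = w * y → y * (z * w) = (z * w) * y := by
      intro y hy hyw
      have e1 := hzZ y hy hyw
      calc y * (z * w) = (y * z) * w := by group
        _ = (z * y) * w := by rw [e1]
        _ = z * (y * w) := by group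
        _ = z * (w * y) := by rw [hyw]
        _ = (z * w) * y := by group
    have htx : x * (z * w) = (z * w) * x := by
      have : x * (z * w) * x⁻¹ = z * w := by
        calc x * (z * w) * x⁻¹ = (x * z * x⁻¹) * (x * w * x⁻¹) := by group
          _ = (z * u) * (u * w) := by rw [← hz', hz'eq, hxw]
          _ = z * (u * u) * w := by group
          _ = z * w := by rw [hu2]; group
      calc x * (z * w) = (x * (z * w) * x⁻¹) * x := by group
        _ = (z * w) * x := by rw [this]
    have htcent := central_of_comm h (z * w) ht0 htx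
    rcases central_invol_cases P hcyc u huP h.hu1 hu2 h.huZ (z * w) htP ht2 htcent with h1 | h1
    · -- z * w = 1
      have : z = w := by
        have : z * w = w * w := by rw [h1, hw2]
        exact mul_right_cancel this
      rw [this]; exact h.hwU
    · -- z * w = u
      have : z = u * w := by
        have : z * w = (u * w) * w := by
          rw [h1]
          calc u = u * (w * w) := by rw [hw2]; group
            _ = (u * w) * w := by group
        exact mul_right_cancel this
      rw [this]; exact U.mul_mem h.huU h.hwU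

end Cfsg.Agent.Lib.Helper14.NG57
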