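import Cfsg.Agent.Lib.Helper14.NG57.L00a
import Cfsg.Agent.Lib.Helper14.NG57.L00b

/-! S1957 leaf L06a: in the configuration `NC P U u w x`, every `P`-conjugate of `w` is `w` or `u*w`.
`y w y⁻¹ ∈ U` (`h.hUn`), so by `klein_cases U h.hU4 u w ..` it is `1, u, w` or `u*w`;
`= 1` gives `w = 1`; `= u` gives `w = y⁻¹ u y = u` (`h.huZ`). -/

set_option autoImplicit false

namespace Cfsg.Agent.Lib.Helper14.NG57

open Subgroup

variable {G : Type*} [Group G]

theorem conj_cases {P U : Subgroup G} {u w x : G} (h : NC P U u w x) :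
    ∀ y ∈ P, y * w * y⁻¹ = w ∨ y * w * y⁻¹ = u * w := by
  intro y hy
  have hyU : y * w * y⁻¹ ∈ U := (Subgroup.mem_normalizer_iff.mp (h.hUn hy) w).mp h.hwU
  rcases klein_cases U h.hU4 u w h.huU h.hwU h.hu1 h.hw1 h.hwu _ hyU with h1 | h1 | h1 | h1
  · exfalso
    apply h.hw1
    have : w = y⁻¹ * (y * w * y⁻¹) * y := by group
    rw [this, h1]
    group
  · exfalso
    apply h.hwu
    have hyu : y * u = u * y := h.huZ y hy
    have : w = y⁻¹ * (y * w * y⁻¹) * y := by group
    rw [this, h1]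
    calc y⁻¹ * u * y = y⁻¹ * (u * y) := by group
      _ = y⁻¹ * (y * u) := by rw [hyu]
      _ = u := by group
  · exact Or.inl h1
  · exact Or.inr h1

end Cfsg.Agent.Lib.Helper14.NG57
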