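import Cfsg.Agent.Lib.Helper14.NG57.L06a

/-! S1957 leaf L06b: `C_P(w)` has index 2 in `P`, elementwise.
By `conj_cases`, `y w ≠ w y` forces `y w y⁻¹ = u w`; same for `x`; hence `x⁻¹ y` fixes `w`.
For `x*x`: `x (u w) x⁻¹ = u (u w) = w` (`u` central in `P`, `u*u = 1` by `klein_sq`). -/

set_option autoImplicit false

namespace Cfsg.Agent.Lib.Helper14.NG57

open Subgroup

variable {G : Type*} [Group G]

theorem mul_comm_of_not {P U : Subgroup G} {u w x : G} (h : NC P U u w x) :
    ∀ y ∈ P, y * w ≠ w * y → (x⁻¹ * y) * w = w * (x⁻¹ * y) := by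
  intro y hy hne
  have hy' : y * w * y⁻¹ = u * w := by
    rcases conj_cases h y hy with h1 | h1
    · exfalso
      apply hne
      calc y * w = y * w * y⁻¹ * y := by group
        _ = w * y := by rw [h1]
    · exact h1
  have hx' : x * w * x⁻¹ = u * w := by
    rcases conj_cases h x h.hxP with h1 | h1
    · exfalso
      apply h.hxw
      calc x * w = x * w * x⁻¹ * x := by group
        _ = w * x := by rw [h1]
    · exact h1
  have e : y * w * y⁻¹ = x * w * x⁻¹ := hy'.trans hx'.symm
  calc x⁻¹ * y * w = x⁻¹ * (y * w * y⁻¹) * y := by group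
    _ = x⁻¹ * (x * w * x⁻¹) * y := by rw [e]
    _ = w * (x⁻¹ * y) := by group

theorem sq_comm {P U : Subgroup G} {u w x : G} (h : NC P U u w x) :
    (x * x) * w = w * (x * x) := by
  have hx' : x * w * x⁻¹ = u * w := by
    rcases conj_cases h x h.hxP with h1 | h1
    · exfalso
      apply h.hxw
      calc x * w = x * w * x⁻¹ * x := by group
        _ = w * x := by rw [h1]
    · exact h1
  have hxu : x * u = u * x := h.huZ x h.hxP
  have huu : u * u = 1 := klein_sq U h.hU4 u h.huU
  calc x * x * w = x * (x * w * x⁻¹) * x := by group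
    _ = x * (u * w) * x := by rw [hx']
    _ = (x * u) * w * x := by group
    _ = u * x * w * x := by rw [hxu]
    _ = u * (x * w * x⁻¹) * x * x := by group
    _ = u * (u * w) * x * x := by rw [hx']
    _ = (u * u) * w * x * x := by group
    _ = w * (x * x) := by rw [huu]; group

end Cfsg.Agent.Lib.Helper14.NG57
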