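import Cfsg.Agent.Lib.Helper14.NG57.Defs

/-! S1957 leaf L06c: a cyclic centre `Z(P) = P ⊓ centralizer P` has at most one involution.
`⟨u,_⟩, ⟨c,_⟩, 1 : ↥(P ⊓ centralizer P)` all satisfy `z ^ 2 = 1`; in a finite cyclic group
`IsCyclic.card_pow_eq_one_le (n := 2)` bounds the number of such `z` by `2`; `u ≠ 1`, so `c ∈ {1,u}`.
(`mem_centralizer_iff : g ∈ centralizer S ↔ ∀ h ∈ S, h * g = g * h`.) -/

set_option autoImplicit false

namespace Cfsg.Agent.Lib.Helper14.NG57

open Subgroup

variable {G : Type*} [Group G] [Finite G]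

theorem central_invol_cases (P : Subgroup G)
    (hcyc : IsCyclic ↥(P ⊓ centralizer (P : Set G)))
    (u : G) (huP : u ∈ P) (hu1 : u ≠ 1) (hu2 : u * u = 1) (huZ : ∀ y ∈ P, y * u = u * y)
    (c : G) (hcP : c ∈ P) (hc2 : c * c = 1) (hcZ : ∀ y ∈ P, y * c = c * y) :
    c = 1 ∨ c = u := by
  classical
  by_contra hne
  push Not at hne
  obtain ⟨hc1, hcu⟩ := hne
  have huZ' : u ∈ P ⊓ centralizer (P : Set G) := by
    rw [Subgroup.mem_inf, mem_centralizer_iff]
    exact ⟨huP, fun y hy => huZ y hy⟩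
  have hcZ' : c ∈ P ⊓ centralizer (P : Set G) := by
    rw [Subgroup.mem_inf, mem_centralizer_iff]
    exact ⟨hcP, fun y hy => hcZ y hy⟩
  have : Fintype ↥(P ⊓ centralizer (P : Set G)) := Fintype.ofFinite _
  have hcard := IsCyclic.card_pow_eq_one_le (α := ↥(P ⊓ centralizer (P : Set G))) (n := 2)
    (by norm_num)
  set u' : ↥(P ⊓ centralizer (P : Set G)) := ⟨u, huZ'⟩ with hu'
  set c' : ↥(P ⊓ centralizer (P : Set G)) := ⟨c, hcZ'⟩ with hc'
  have hu'1 : u' ≠ 1 := fun h => hu1 (by simpa [hu'] using congrArg Subtype.val h)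
  have hc'1 : c' ≠ 1 := fun h => hc1 (by simpa [hc'] using congrArg Subtype.val h)
  have hc'u' : c' ≠ u' := fun h => hcu (by simpa [hu', hc'] using congrArg Subtype.val h)
  have hsub : ({1, u', c'} : Finset ↥(P ⊓ centralizer (P : Set G))) ⊆
      Finset.univ.filter (fun a : ↥(P ⊓ centralizer (P : Set G)) => a ^ 2 = 1) := by
    intro z hz
    simp only [Finset.mem_insert, Finset.mem_singleton] at hz
    simp only [Finset.mem_filter, Finset.mem_univ, true_and]
    rcases hz with rfl | rfl | rfl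
    · simp
    · apply Subtype.ext; simp [hu', pow_two, hu2]
    · apply Subtype.ext; simp [hc', pow_two, hc2]
  have h3 : ({1, u', c'} : Finset ↥(P ⊓ centralizer (P : Set G))).card = 3 := by
    rw [Finset.card_insert_of_notMem, Finset.card_insert_of_notMem, Finset.card_singleton]
    · simpa using hc'u'.symm
    · simp only [Finset.mem_insert, Finset.mem_singleton, not_or]
      exact ⟨hu'1.symm, hc'1.symm⟩
  have := Finset.card_le_card hsub
  omega

end Cfsg.Agent.Lib.Helper14.NG57
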