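import Cfsg.Agent.Lib.Helper14.NG57.L00c
import Cfsg.Agent.Lib.Helper14.NG57.L06b

/-! S1957 leaf L07: `|P| = 2 |C_P(w)|`.
`H := (P ⊓ Cn w).subgroupOf P` has index 2 in `↥P`: `Subgroup.index_eq_two_iff`
(`H.index = 2 ↔ ∃ a, ∀ b, Xor' (b * a ∈ H) (b ∈ H)`) with `a := ⟨x,_⟩` (or its inverse), using
`mem_Cn_iff` (`orderOf w = 2` by `klein_orderOf`), `h.hxw` and `mul_comm_of_not`.  Then
`Subgroup.card_mul_index H`, and `Nat.card H = Nat.card ↥(P ⊓ Cn w)` via
`Subgroup.subgroupOfEquivOfLe inf_le_left`. -/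

set_option autoImplicit false

namespace Cfsg.Agent.Lib.Helper14.NG57

open Subgroup

variable {G : Type*} [Group G] [Finite G]

theorem card_eq_two_mul {P U : Subgroup G} {u w x : G} (h : NC P U u w x) :
    Nat.card ↥P = 2 * Nat.card ↥(P ⊓ Cn w) := by
  have hw2 : orderOf w = 2 := klein_orderOf U h.hU4 w h.hwU h.hw1
  have hmem : ∀ b : ↥P, b ∈ (P ⊓ Cn w).subgroupOf P ↔ (b : G) * w = w * (b : G) := by
    intro b
    rw [Subgroup.mem_subgroupOf, Subgroup.mem_inf, mem_Cn_iff hw2]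
    exact ⟨fun hb => hb.2, fun hb => ⟨b.2, hb⟩⟩
  have hidx : ((P ⊓ Cn w).subgroupOf P).index = 2 := by
    rw [Subgroup.index_eq_two_iff]
    refine ⟨⟨x, h.hxP⟩, fun b => ?_⟩
    by_cases hb : (b : G) * w = w * (b : G)
    · right
      refine ⟨(hmem b).mpr hb, fun hbx => ?_⟩
      have hbx' : ((b : G) * x) * w = w * ((b : G) * x) := (hmem _).mp hbx
      apply h.hxw
      have hbi : (b : G)⁻¹ * w = w * (b : G)⁻¹ := by
        calc (b : G)⁻¹ * w = (b : G)⁻¹ * (w * (b : G)) * (b : G)⁻¹ := by group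
          _ = (b : G)⁻¹ * ((b : G) * w) * (b : G)⁻¹ := by rw [hb]
          _ = w * (b : G)⁻¹ := by group
      calc x * w = (b : G)⁻¹ * (((b : G) * x) * w) := by group
        _ = (b : G)⁻¹ * (w * ((b : G) * x)) := by rw [hbx']
        _ = ((b : G)⁻¹ * w) * ((b : G) * x) := by group
        _ = (w * (b : G)⁻¹) * ((b : G) * x) := by rw [hbi]
        _ = w * x := by group
    · left
      refine ⟨?_, fun hbH => hb ((hmem b).mp hbH)⟩
      rw [hmem]
      have hbi : (b : G)⁻¹ * w ≠ w * (b : G)⁻¹ := by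
        intro hc
        apply hb
        calc (b : G) * w = (b : G) * (w * (b : G)⁻¹) * (b : G) := by group
          _ = (b : G) * ((b : G)⁻¹ * w) * (b : G) := by rw [hc]
          _ = w * (b : G) := by group
      have h1 := mul_comm_of_not h (b : G)⁻¹ (inv_mem b.2) hbi
      show ((b : G) * x) * w = w * ((b : G) * x)
      calc ((b : G) * x) * w = ((b : G) * x) * (w * (x⁻¹ * (b : G)⁻¹)) * ((b : G) * x) := by group
        _ = ((b : G) * x) * ((x⁻¹ * (b : G)⁻¹) * w) * ((b : G) * x) := by rw [h1]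
        _ = w * ((b : G) * x) := by group
  have hcard := Subgroup.card_mul_index ((P ⊓ Cn w).subgroupOf P)
  rw [hidx] at hcard
  have heq : Nat.card ((P ⊓ Cn w).subgroupOf P) = Nat.card ↥(P ⊓ Cn w) :=
    Nat.card_congr (Subgroup.subgroupOfEquivOfLe (inf_le_left : P ⊓ Cn w ≤ P)).toEquiv
  rw [heq] at hcard
  omega

end Cfsg.Agent.Lib.Helper14.NG57
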