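import Cfsg.Agent.Lib.Helper14.NG57.Defs

/-! S1957 leaf L08b1: a 2-subgroup `T` properly containing `P0`, where `|P| = 2 |P0|` for a Sylow
2-subgroup `P`, has `|T| = |P|`.
`T ≤ P'` for some Sylow `P'` (`IsPGroup.exists_le_sylow`), `Nat.card P' = Nat.card P`
(`Sylow.card_eq_multiplicity` for both), so `|T| ∣ |P| = 2 |P0|` (`Subgroup.card_dvd_of_le`);
`|P0| ∣ |T|`; write `|T| = k |P0|`, then `k ∣ 2`; `k = 1` would force `T = P0`
(`Subgroup.eq_of_le_of_card_ge`). -/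

set_option autoImplicit false

namespace Cfsg.Agent.Lib.Helper14.NG57

open Subgroup

variable {G : Type*} [Group G] [Finite G]

theorem card_eq_of_ne (P : Sylow 2 G) (P0 T : Subgroup G) (hT : IsPGroup 2 ↥T) (h0T : P0 ≤ T)
    (hne : T ≠ P0) (hcard : Nat.card ↥(P : Subgroup G) = 2 * Nat.card ↥P0) :
    Nat.card ↥T = Nat.card ↥(P : Subgroup G) := by
  have : Fact (Nat.Prime 2) := ⟨Nat.prime_two⟩
  obtain ⟨P', hP'⟩ := hT.exists_le_sylow
  have hPP' : Nat.card ↥(P' : Subgroup G) = Nat.card ↥(P : Subgroup G) := by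
    rw [Sylow.card_eq_multiplicity, Sylow.card_eq_multiplicity]
  have h1 : Nat.card ↥T ∣ 2 * Nat.card ↥P0 := by
    rw [← hcard, ← hPP']
    exact Subgroup.card_dvd_of_le hP'
  have h2 : Nat.card ↥P0 ∣ Nat.card ↥T := Subgroup.card_dvd_of_le h0T
  obtain ⟨k, hk⟩ := h2
  have hpos : 0 < Nat.card ↥P0 := Nat.card_pos
  have hk2 : k ∣ 2 := by
    rw [hk, mul_comm 2] at h1
    exact (Nat.mul_dvd_mul_iff_left hpos).mp h1
  have hk' : k = 1 ∨ k = 2 := (Nat.dvd_prime Nat.prime_two).mp hk2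
  rcases hk' with rfl | rfl
  · exfalso
    apply hne
    symm
    apply Subgroup.eq_of_le_of_card_ge h0T
    rw [hk, mul_one]
  · rw [hk, hcard, mul_comm]

end Cfsg.Agent.Lib.Helper14.NG57
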