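import Cfsg.Agent.Lib.Helper14.NG57.Defs

/-! S1957 leaf L08b2: a subgroup of the order of a Sylow 2-subgroup is (the carrier of) a Sylow
2-subgroup.  `Sylow.ofCard T (hT.trans P.card_eq_multiplicity)` and `Sylow.coe_ofCard`
(`Fact (Nat.Prime 2)` is the instance `Nat.fact_prime_two`). -/

set_option autoImplicit false

namespace Cfsg.Agent.Lib.Helper14.NG57

open Subgroup

variable {G : Type*} [Group G] [Finite G]

theorem exists_sylow_eq (P : Sylow 2 G) (T : Subgroup G)
    (hT : Nat.card ↥T = Nat.card ↥(P : Subgroup G)) :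
    ∃ P' : Sylow 2 G, (P' : Subgroup G) = T := by
  exact ⟨Sylow.ofCard T (hT.trans P.card_eq_multiplicity), Sylow.coe_ofCard _ _⟩

end Cfsg.Agent.Lib.Helper14.NG57
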