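import Cfsg.Agent.Lib.Helper14.NG57.Defs

/-! S1957 leaf L08b3: a subgroup of index 2 is normal (relative version).
`(A.subgroupOf B).index = A.relIndex B = 2` (`Subgroup.relIndex_mul_card`/`Subgroup.card_mul_index` and
`Nat.card (A.subgroupOf B) = Nat.card A` via `Subgroup.subgroupOfEquivOfLe hAB`), so
`Subgroup.normal_of_index_eq_two`, then `Subgroup.normal_subgroupOf_iff_le_normalizer hAB`. -/

set_option autoImplicit false

namespace Cfsg.Agent.Lib.Helper14.NG57

open Subgroup

variable {G : Type*} [Group G] [Finite G]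

theorem le_normalizer_of_card (A B : Subgroup G) (hAB : A ≤ B)
    (hcard : Nat.card ↥B = 2 * Nat.card ↥A) : B ≤ normalizer (A : Set G) := by
  have hpos : 0 < Nat.card ↥A := Nat.card_pos
  have hc : Nat.card ↥(A.subgroupOf B) = Nat.card ↥A :=
    Nat.card_congr (Subgroup.subgroupOfEquivOfLe hAB).toEquiv
  have h1 : Nat.card ↥(A.subgroupOf B) * (A.subgroupOf B).index = Nat.card ↥B :=
    Subgroup.card_mul_index _
  have h3 : (A.subgroupOf B).index = 2 := by
    rw [hc, hcard, mul_comm] at h1
    exact Nat.eq_of_mul_eq_mul_right hpos h1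
  have hn : (A.subgroupOf B).Normal := Subgroup.normal_of_index_eq_two h3
  exact (Subgroup.normal_subgroupOf_iff_le_normalizer hAB).mp hn

end Cfsg.Agent.Lib.Helper14.NG57
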