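import Cfsg.Agent.Lib.Helper14.NG57.L00c
import Cfsg.Agent.Lib.Helper14.NG57.L06

/-! S1957 leaf L08b4: a subgroup `T ≤ C_G(w)` normalizing `P0 = C_P(w)` normalizes `U`
(because `U = Ω₁(Z(P0))`, `mem_of_central_sq`).
It suffices: `∀ t ∈ T, ∀ a ∈ U, t * a * t⁻¹ ∈ U` (then apply it to `t⁻¹` for the converse direction of
`mem_normalizer_iff`).  Given `t ∈ T`, `a ∈ U`: `a ∈ P ⊓ Cn w` (`h.hUP`, `klein_comm`, `mem_Cn_iff`
with `orderOf w = 2` from `klein_orderOf`); `z := t a t⁻¹ ∈ P ⊓ Cn w` by `hTn`; `z*z = 1` (`klein_sq`);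
for `y ∈ P` with `y w = w y`: `y' := t⁻¹ y t ∈ P ⊓ Cn w` (`hTn` for `t⁻¹`), and `a` commutes with `y'`
(`a ∈ {1,u,w,u*w}` by `klein_cases`; `u` central in `P` by `h.huZ`, `w` commutes with `y'` by
`mem_Cn_iff`), hence `y z = z y`.  Apply `mem_of_central_sq h hcyc z`. -/

set_option autoImplicit false

namespace Cfsg.Agent.Lib.Helper14.NG57

open Subgroup

variable {G : Type*} [Group G] [Finite G]

theorem normalizes_U {P U : Subgroup G} {u w x : G} (h : NC P U u w x)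
    (hcyc : IsCyclic ↥(P ⊓ centralizer (P : Set G))) (T : Subgroup G)
    (hTn : T ≤ normalizer ((P ⊓ Cn w : Subgroup G) : Set G)) (hTC : T ≤ Cn w) :
    T ≤ normalizer (U : Set G) := by
  have hw2 : orderOf w = 2 := klein_orderOf U h.hU4 w h.hwU h.hw1
  have key : ∀ t ∈ T, ∀ a ∈ U, t * a * t⁻¹ ∈ U := by
    intro t ht a ha
    have haP : a ∈ P := h.hUP ha
    have haw : a * w = w * a := klein_comm U h.hU4 a ha w h.hwU
    have haC : a ∈ Cn w := (mem_Cn_iff hw2).mpr haw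
    have haI : a ∈ P ⊓ Cn w := ⟨haP, haC⟩
    have hzI : t * a * t⁻¹ ∈ P ⊓ Cn w := (Subgroup.mem_normalizer_iff.mp (hTn ht) a).mp haI
    have hz2 : (t * a * t⁻¹) * (t * a * t⁻¹) = 1 := by
      have h1 : a * a = 1 := klein_sq U h.hU4 a ha
      calc (t * a * t⁻¹) * (t * a * t⁻¹) = t * (a * a) * t⁻¹ := by group
        _ = 1 := by rw [h1]; group
    refine mem_of_central_sq h hcyc (t * a * t⁻¹) hzI.1 hz2 ?_
    intro y hyP hyw
    have hyI : y ∈ P ⊓ Cn w := ⟨hyP, (mem_Cn_iff hw2).mpr hyw⟩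
    have hy'I : t⁻¹ * y * t⁻¹⁻¹ ∈ P ⊓ Cn w :=
      (Subgroup.mem_normalizer_iff.mp (hTn (T.inv_mem ht)) y).mp hyI
    have hy'u : (t⁻¹ * y * t⁻¹⁻¹) * u = u * (t⁻¹ * y * t⁻¹⁻¹) := h.huZ _ hy'I.1
    have hy'w : (t⁻¹ * y * t⁻¹⁻¹) * w = w * (t⁻¹ * y * t⁻¹⁻¹) := (mem_Cn_iff hw2).mp hy'I.2
    have hcomm : (t⁻¹ * y * t⁻¹⁻¹) * a = a * (t⁻¹ * y * t⁻¹⁻¹) := by
      rcases klein_cases U h.hU4 u w h.huU h.hwU h.hu1 h.hw1 h.hwu a ha with h1 | h1 | h1 | h1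
      · rw [h1, mul_one, one_mul]
      · rw [h1]; exact hy'u
      · rw [h1]; exact hy'w
      · rw [h1, ← mul_assoc, hy'u, mul_assoc, hy'w, ← mul_assoc]
    calc y * (t * a * t⁻¹) = t * ((t⁻¹ * y * t⁻¹⁻¹) * a) * t⁻¹ := by group
      _ = t * (a * (t⁻¹ * y * t⁻¹⁻¹)) * t⁻¹ := by rw [hcomm]
      _ = (t * a * t⁻¹) * y := by group
  intro t ht
  rw [Subgroup.mem_normalizer_iff]
  intro g
  constructor
  · exact key t ht g
  · intro hg
    have := key t⁻¹ (T.inv_mem ht) _ hg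
    have e : t⁻¹ * (t * g * t⁻¹) * t⁻¹⁻¹ = g := by group
    rwa [e] at this

end Cfsg.Agent.Lib.Helper14.NG57
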