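import Cfsg.Agent.Lib.Helper14.NG57.L04
import Cfsg.Agent.Lib.Helper14.NG57.L07
import Cfsg.Agent.Lib.Helper14.NG57.L08b1
import Cfsg.Agent.Lib.Helper14.NG57.L08b2
import Cfsg.Agent.Lib.Helper14.NG57.L08b3
import Cfsg.Agent.Lib.Helper14.NG57.L08b4

/-! S1957 step (E)(b): `T` a 2-subgroup of `C_G(w)` properly containing `C_P(w)`: then `T` is a Sylow
2-subgroup of `G` with `w ∈ Z(T)`, `U ≤ T`, `T ≤ N(U)`; apply step (A).
(assembly; sorry-free modulo the leaves) -/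

set_option autoImplicit false

namespace Cfsg.Agent.Lib.Helper14.NG57

open Subgroup

variable {G : Type*} [Group G] [Finite G]

theorem le_Rn_of_big_sylow (h2 : Cfsg.IsCharacteristicTwoType G) (P : Sylow 2 G)
    {U : Subgroup G} {u w x : G} (h : NC (P : Subgroup G) U u w x)
    (hcyc : IsCyclic ↥((P : Subgroup G) ⊓ centralizer ((P : Subgroup G) : Set G)))
    (T : Subgroup G) (hT2 : IsPGroup 2 ↥T) (h0T : (P : Subgroup G) ⊓ Cn w ≤ T) (hTC : T ≤ Cn w)
    (hne : T ≠ (P : Subgroup G) ⊓ Cn w) : U ≤ Rn w := by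
  have hcard := card_eq_two_mul h
  have hTP := card_eq_of_ne P _ T hT2 h0T hne hcard
  obtain ⟨P', hP'⟩ := exists_sylow_eq P T hTP
  have hTn : T ≤ normalizer (((P : Subgroup G) ⊓ Cn w : Subgroup G) : Set G) :=
    le_normalizer_of_card _ T h0T (hTP.trans hcard)
  have hTU := normalizes_U h hcyc T hTn hTC
  have hw2 := klein_orderOf U h.hU4 w h.hwU h.hw1
  have hUP0 : U ≤ (P : Subgroup G) ⊓ Cn w := fun a ha =>
    ⟨h.hUP ha, (mem_Cn_iff hw2).mpr (klein_comm U h.hU4 a ha w h.hwU)⟩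
  apply le_Rn_of_central h2 P' U (hP' ▸ hUP0.trans h0T) (hP' ▸ hTU) h.hU4 w h.hwU h.hw1
  intro y hy
  rw [hP'] at hy
  exact (mem_Cn_iff hw2).mp (hTC hy)

end Cfsg.Agent.Lib.Helper14.NG57
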