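import Cfsg.Agent.Lib.Helper14.NG57.L08a
import Cfsg.Agent.Lib.Helper14.NG57.L08b

/-! S1957 step (E): the non-central configuration with `Z(P)` cyclic gives `U ≤ O_2(C_G(w))`.
(assembly; sorry-free modulo the leaves) -/

set_option autoImplicit false

namespace Cfsg.Agent.Lib.Helper14.NG57

open Subgroup

variable {G : Type*} [Group G] [Finite G]

theorem Rn_le_map_sylow (w : G) (Q : Sylow 2 ↥(Cn w)) :
    Rn w ≤ (Q : Subgroup ↥(Cn w)).map (Cn w).subtype :=
  Subgroup.map_mono (Cfsg.Agent.Lib.Helper16.pCore_le_sylow Q)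

theorem le_Rn_of_noncentral (h2 : Cfsg.IsCharacteristicTwoType G) (P : Sylow 2 G)
    {U : Subgroup G} {u w x : G} (h : NC (P : Subgroup G) U u w x)
    (hcyc : IsCyclic ↥((P : Subgroup G) ⊓ centralizer ((P : Subgroup G) : Set G))) :
    U ≤ Rn w := by
  have hw2 := klein_orderOf U h.hU4 w h.hwU h.hw1
  have hUC : U ≤ Cn w := fun a ha => (mem_Cn_iff hw2).mpr (klein_comm U h.hU4 a ha w h.hwU)
  have hP0 : IsPGroup 2 ↥(((P : Subgroup G) ⊓ Cn w).subgroupOf (Cn w)) :=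
    (P.2.to_le inf_le_left).comap_subtype
  obtain ⟨Q, hQ⟩ := hP0.exists_le_sylow
  have hT2 : IsPGroup 2 ↥((Q : Subgroup ↥(Cn w)).map (Cn w).subtype) := Q.2.map _
  have h0T : (P : Subgroup G) ⊓ Cn w ≤ (Q : Subgroup ↥(Cn w)).map (Cn w).subtype := by
    intro y hy
    exact ⟨⟨y, hy.2⟩, hQ (mem_subgroupOf.mpr hy), rfl⟩
  have hTC : (Q : Subgroup ↥(Cn w)).map (Cn w).subtype ≤ Cn w := map_subtype_le _
  by_cases hne : (Q : Subgroup ↥(Cn w)).map (Cn w).subtype = (P : Subgroup G) ⊓ Cn w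
  · apply le_Rn_of_centralizes h2 w hw2 U hUC
    intro r hr a ha
    have hr0 : r ∈ (P : Subgroup G) ⊓ Cn w := hne ▸ Rn_le_map_sylow w Q hr
    have hru : r * u = u * r := h.huZ r hr0.1
    have hrw : r * w = w * r := (mem_Cn_iff hw2).mp hr0.2
    rcases klein_cases U h.hU4 u w h.huU h.hwU h.hu1 h.hw1 h.hwu a ha with rfl | rfl | rfl | rfl
    · simp
    · exact hru
    · exact hrw
    · rw [← mul_assoc, hru, mul_assoc, hrw, mul_assoc]
  · exact le_Rn_of_big_sylow h2 P h hcyc _ hT2 h0T hTC hne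

end Cfsg.Agent.Lib.Helper14.NG57
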