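import Cfsg.Agent.Lib.Helper14.NG57.L04c
import Cfsg.Agent.Lib.Helper14.NG57.L04d

/-! S1957 leaf L08a: a subgroup of `C_G(w)` centralizing `O_2(C_G(w))` lies in it
(characteristic 2: `char_Cn`).  For `a ∈ U`: `⟨a, hUC ha⟩ ∈ centralizer (pCore 2 ↥(Cn w))`
(`mem_centralizer_iff`; for `r` in the `pCore`, `r.1 ∈ Rn w` by `mem_Rn_iff`, compare in `G` by
`Subtype.ext`), so it lies in the `pCore`; conclude with `mem_Rn_iff`. -/

set_option autoImplicit false

namespace Cfsg.Agent.Lib.Helper14.NG57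

open Subgroup

variable {G : Type*} [Group G]

theorem le_Rn_of_centralizes (h2 : Cfsg.IsCharacteristicTwoType G) (w : G) (hw : orderOf w = 2)
    (U : Subgroup G) (hUC : U ≤ Cn w) (hc : ∀ r ∈ Rn w, ∀ a ∈ U, r * a = a * r) : U ≤ Rn w := by
  intro a ha
  rw [mem_Rn_iff w a (hUC ha)]
  apply char_Cn h2 w hw
  rw [Subgroup.mem_centralizer_iff]
  intro r hr
  apply Subtype.ext
  have hr' : (r : G) ∈ Rn w := by
    rw [mem_Rn_iff w (r : G) r.2]
    exact hr
  exact hc (r : G) hr' a ha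

end Cfsg.Agent.Lib.Helper14.NG57
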