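import Cfsg.Agent.Lib.Helper14.NG57.L02
import Cfsg.Agent.Lib.Helper14.NG57.L03
import Cfsg.Agent.Lib.Helper14.NG57.L05
import Cfsg.Agent.Lib.Helper14.NG57.L08

/-! S1957: assembly (sorry-free modulo the leaves). -/

set_option autoImplicit false

namespace Cfsg.Agent.Lib.Helper14.NG57

open Subgroup

variable {G : Type*} [Group G] [Finite G]

theorem main (h2 : Cfsg.IsCharacteristicTwoType G)
    (P : Sylow 2 G) (U : Subgroup G) (hUP : U ≤ (P : Subgroup G))
    (hUn : (P : Subgroup G) ≤ Subgroup.normalizer (U : Set G))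
    (hU4 : IsKleinFour ↥U)
    (hUZ : ¬ IsCyclic ↥((P : Subgroup G) ⊓ Subgroup.centralizer ((P : Subgroup G) : Set G)) →
      U ≤ Subgroup.centralizer ((P : Subgroup G) : Set G))
    (K : Subgroup G) (hK : Odd (Nat.card K)) (hUK : U ≤ Subgroup.normalizer (K : Set G)) :
    U ≤ Subgroup.centralizer (K : Set G) := by
  apply le_centralizer_of_forall U K hU4 hK hUK
  intro w hwU hw1
  have hw2 : orderOf w = 2 := klein_orderOf U hU4 w hwU hw1
  apply commute_of_le_Rn U K hK hUK w hw2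
  by_cases hwc : ∀ x ∈ (P : Subgroup G), x * w = w * x
  · exact le_Rn_of_central h2 P U hUP hUn hU4 w hwU hw1 hwc
  · have hcyc : IsCyclic ↥((P : Subgroup G) ⊓ Subgroup.centralizer ((P : Subgroup G) : Set G)) := by
      by_contra hnc
      exact hwc (fun x hx => (mem_centralizer_iff.mp (hUZ hnc hwU)) x hx)
    obtain ⟨u, huU, hu1, huZ⟩ := exists_central (P : Subgroup G) U P.2 hUP hUn hU4
    have hwu : w ≠ u := by
      rintro rfl
      exact hwc huZ
    push_neg at hwc
    obtain ⟨x, hxP, hxw⟩ := hwc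
    exact le_Rn_of_noncentral h2 P
      (⟨hUP, hUn, hU4, huU, hu1, huZ, hwU, hw1, hwu, hxP, hxw⟩ : NC (P : Subgroup G) U u w x) hcyc

end Cfsg.Agent.Lib.Helper14.NG57
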